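import Groth.Prelude.Def_W4stktopologysheavesDim
import Mathlib.Topology.Sober
import Mathlib.Topology.NoetherianSpace

/-!
# Catenary spaces and dimension functions
-/

set_option autoImplicit false

universe u v

open TopologicalSpace Topology

namespace GrothLib.Catenary20

section order

variable {P : Type u} [PartialOrder P]

/-- length of the longest chain from `a` to below `b` -/
noncomputable def C (a b : P) : ℕ∞ :=
  ⨆ (s : LTSeries P) (_ : s.head = a ∧ s.last ≤ b), (s.length : ℕ∞)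

/-- saturated -/
def Sat (s : LTSeries P) : Prop := ∀ i : Fin s.length, s (Fin.castSucc i) ⋖ s (Fin.succ i)

variable (P) in
/-- catenary -/
def Cat : Prop :=
  ∀ a b : P, a ≤ b → C a b ≠ ⊤ ∧ ∀ s : LTSeries P, s.head = a → s.last = b → Sat s → (s.length : ℕ∞) = C a b

theorem le_C {a b : P} (s : LTSeries P) (h1 : s.head = a) (h2 : s.last ≤ b) : (s.length : ℕ∞) ≤ C a b :=
  le_iSup₂ (f := fun (s : LTSeries P) (_ : s.head = a ∧ s.last ≤ b) => (s.length : ℕ∞)) s ⟨h1, h2⟩

theorem C_le {a b : P} {n : ℕ∞} (h : ∀ s : LTSeries P, s.head = a → s.last ≤ b → (s.length : ℕ∞) ≤ n) : C a b ≤ n :=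
  iSup₂_le fun s hs => h s hs.1 hs.2

theorem length_eq_zero {a : P} (s : LTSeries P) (h1 : s.head = a) (h2 : s.last ≤ a) : s.length = 0 := by
  by_contra h
  exact lt_irrefl a (lt_of_lt_of_le (h1 ▸ s.strictMono (show (0 : Fin (s.length + 1)) < Fin.last _ from
    Fin.lt_def.2 (Nat.pos_of_ne_zero h))) h2)

theorem C_self (a : P) : C a a = 0 :=
  le_antisymm (C_le fun s h1 h2 => by rw [length_eq_zero s h1 h2]; rfl) bot_le

theorem C_covBy {a b : P} (h : a ⋖ b) : C a b = 1 := by
  refine le_antisymm (C_le fun s h1 h2 => ?_) ?_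
  · by_contra hlen
    simp only [not_le] at hlen
    have h2' : 2 ≤ s.length := by exact_mod_cast hlen
    have h3 : a < s ⟨1, by omega⟩ := h1 ▸ s.strictMono (show (0 : Fin (s.length + 1)) < ⟨1, by omega⟩ from Nat.zero_lt_one)
    have h4 : s ⟨1, by omega⟩ < b := lt_of_lt_of_le (s.strictMono (show (⟨1, by omega⟩ : Fin (s.length + 1)) < Fin.last _ from
      Fin.lt_def.2 (by simp; omega))) h2
    exact h.2 h3 h4
  · exact le_C ((RelSeries.singleton _ a).snoc b h.1) (by simp) (by simp)

theorem exists_sat {a b : P} (hab : a ≤ b) (hfin : C a b ≠ ⊤) :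
    ∃ s : LTSeries P, s.head = a ∧ s.last = b ∧ Sat s ∧ (s.length : ℕ∞) = C a b := by
  classical
  obtain ⟨N, hN⟩ := ENat.ne_top_iff_exists.1 hfin
  let Q : ℕ → Prop := fun n => ∃ s : LTSeries P, s.head = a ∧ s.last ≤ b ∧ s.length = n
  have hbd : ∀ n, Q n → n ≤ N := by
    rintro n ⟨s, h1, h2, rfl⟩
    have := le_C s h1 h2
    rw [← hN] at this
    exact_mod_cast this
  have hQ0 : Q 0 := ⟨RelSeries.singleton _ a, rfl, hab, rfl⟩
  obtain ⟨s, h1, h2, hlen⟩ := Nat.findGreatest_spec (P := Q) (n := N) (Nat.zero_le _) hQ0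
  have hmax : ∀ t : LTSeries P, t.head = a → t.last ≤ b → t.length ≤ s.length := fun t t1 t2 => by
    rw [hlen]; exact Nat.le_findGreatest (hbd _ ⟨t, t1, t2, rfl⟩) ⟨t, t1, t2, rfl⟩
  refine ⟨s, h1, h2.eq_of_not_lt fun hlt => ?_, fun i => ⟨s.step i, fun c hc hc' => ?_⟩,
    le_antisymm (le_C s h1 h2) (C_le fun t t1 t2 => by exact_mod_cast hmax t t1 t2)⟩
  · have := hmax (s.snoc b hlt) (by simpa using h1) (by simp)
    simp at this
  · have := hmax (s.insertNth i c hc hc') ?_ ?_
    · simp [RelSeries.insertNth] at this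
    · rw [← h1]
      change Fin.insertNth (α := fun _ => P) i.succ.castSucc c s.toFun 0 = s.toFun 0
      rw [Fin.insertNth_apply_below (show (0 : Fin (s.length + 2)) < i.succ.castSucc by simp [Fin.lt_def])]
      simp
    · refine le_of_eq_of_le ?_ h2
      change Fin.insertNth (α := fun _ => P) i.succ.castSucc c s.toFun (Fin.last (s.length + 1)) = s.toFun (Fin.last _)
      rw [Fin.insertNth_apply_above (show i.succ.castSucc < Fin.last (s.length + 1) from Fin.castSucc_lt_last _)]
      simp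
      rfl

theorem sat_smash {p q : LTSeries P} (h : p.last = q.head) (hp : Sat p) (hq : Sat q) : Sat (p.smash q h) := by
  intro i
  induction i using Fin.addCases with
  | left i =>
    have := hp i
    exact (congrArg₂ (fun x y : P => x ⋖ y) (RelSeries.smash_castAdd h i) (RelSeries.smash_succ_castAdd h i)).mpr this
  | right i =>
    have := hq i
    exact (congrArg₂ (fun x y : P => x ⋖ y) (RelSeries.smash_natAdd h i) (RelSeries.smash_succ_natAdd h i)).mpr this

theorem Cat.add (hP : Cat P) {a b c : P} (hab : a ≤ b) (hbc : b ≤ c) : C a c = C a b + C b c := by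
  obtain ⟨p, p1, p2, p3, p4⟩ := exists_sat hab (hP a b hab).1
  obtain ⟨q, q1, q2, q3, q4⟩ := exists_sat hbc (hP b c hbc).1
  have := (hP a c (hab.trans hbc)).2 (p.smash q (p2.trans q1.symm)) (by simpa using p1) (by simpa using q2)
    (sat_smash _ p3 q3)
  rw [← this, ← p4, ← q4]
  exact_mod_cast rfl

theorem cat_of_add (h1 : ∀ a b : P, a ≤ b → C a b ≠ ⊤)
    (h2 : ∀ a b c : P, a ≤ b → b ≤ c → C a c = C a b + C b c) : Cat P := by
  refine fun a b hab => ⟨h1 a b hab, fun s s1 s2 s3 => ?_⟩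
  have key : ∀ i : Fin (s.length + 1), C a (s i) = (i : ℕ) := by
    intro i
    induction i using Fin.induction with
    | zero => exact (show C a (s 0) = C a a by rw [← s1]; rfl).trans (C_self a)
    | succ i ih =>
      rw [h2 a (s i.castSucc) (s i.succ) (s1 ▸ s.monotone (Fin.zero_le _)) (s3 i).1.le, ih, C_covBy (s3 i)]
      simp
  rw [← s2]
  exact (key (Fin.last _)).symm

variable {d : P → ℤ} (hd : ∀ a b : P, a < b → d a < d b)

include hd in
theorem length_le (s : LTSeries P) : (s.length : ℤ) ≤ d s.last - d s.head := by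
  have key : ∀ i : Fin (s.length + 1), ((i : ℕ) : ℤ) ≤ d (s i) - d (s 0) := by
    intro i
    induction i using Fin.induction with
    | zero => simp
    | succ i ih =>
      have := hd _ _ (s.step i)
      simp at ih ⊢
      omega
  simpa [RelSeries.head, RelSeries.last] using key (Fin.last _)

include hd in
theorem cat_of_dim (hd' : ∀ a b : P, a ⋖ b → d b = d a + 1) :
    Cat P ∧ ∀ a b : P, a ≤ b → C a b = ((d b - d a).toNat : ℕ∞) := by
  have hmono : ∀ a b : P, a ≤ b → d a ≤ d b := fun a b h => by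
    rcases h.lt_or_eq with h | h
    · exact (hd a b h).le
    · exact h ▸ le_rfl
  have hle : ∀ a b : P, a ≤ b → C a b ≤ ((d b - d a).toNat : ℕ∞) := fun a b hab => C_le fun s h1 h2 => by
    have := length_le hd s
    rw [h1] at this
    have := hmono _ _ h2
    have : s.length ≤ (d b - d a).toNat := by omega
    exact_mod_cast this
  have hne : ∀ a b : P, a ≤ b → C a b ≠ ⊤ := fun a b hab => ne_top_of_le_ne_top (ENat.natCast_ne_top _) (hle a b hab)
  have hsat : ∀ s : LTSeries P, Sat s → (s.length : ℤ) = d s.last - d s.head := fun s hs => by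
    have key : ∀ i : Fin (s.length + 1), ((i : ℕ) : ℤ) = d (s i) - d (s 0) := by
      intro i
      induction i using Fin.induction with
      | zero => simp
      | succ i ih =>
        have := hd' _ _ (hs i)
        simp at ih ⊢
        omega
    simpa [RelSeries.head, RelSeries.last] using key (Fin.last _)
  have heq : ∀ a b : P, a ≤ b → C a b = ((d b - d a).toNat : ℕ∞) := fun a b hab => by
    obtain ⟨s, h1, h2, h3, h4⟩ := exists_sat hab (hne a b hab)
    have := hsat s h3
    rw [h1, h2] at this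
    rw [← h4]
    exact_mod_cast (by omega : s.length = (d b - d a).toNat)
  refine ⟨fun a b hab => ⟨hne a b hab, fun s h1 h2 h3 => ?_⟩, heq⟩
  have := hsat s h3
  rw [h1, h2] at this
  rw [heq a b hab]
  exact_mod_cast (by omega : s.length = (d b - d a).toNat)

variable {Q : Type v} [PartialOrder Q]

theorem C_map (f : P ↪o Q) (hf : ∀ a b y, f a ≤ y → y ≤ f b → y ∈ Set.range f) (a b : P) :
    C (f a) (f b) = C a b := by
  refine le_antisymm (C_le fun t t1 t2 => ?_) (C_le fun s h1 h2 => ?_)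
  · have hr : ∀ i, ∃ p, f p = t i := fun i =>
      hf a b (t i) (t1 ▸ t.monotone (Fin.zero_le _)) ((t.monotone (Fin.le_last _)).trans t2)
    choose p hp using hr
    refine le_C (LTSeries.mk t.length p fun i j hij => f.lt_iff_lt.1 (by rw [hp, hp]; exact t.strictMono hij)) ?_ ?_
    · exact f.injective ((hp 0).trans t1)
    · exact f.le_iff_le.1 ((hp _).trans_le t2)
  · exact le_C (s.map f f.strictMono) (congrArg f h1) (f.monotone h2)

theorem covBy_map (f : P ↪o Q) (hf : ∀ a b y, f a ≤ y → y ≤ f b → y ∈ Set.range f) {a b : P} (h : a ⋖ b) :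
    f a ⋖ f b := by
  refine ⟨f.lt_iff_lt.2 h.1, fun y h1 h2 => ?_⟩
  obtain ⟨p, rfl⟩ := hf a b y h1.le h2.le
  exact h.2 (f.lt_iff_lt.1 h1) (f.lt_iff_lt.1 h2)

theorem Cat.of_map (hQ : Cat Q) (f : P ↪o Q) (hf : ∀ a b y, f a ≤ y → y ≤ f b → y ∈ Set.range f) : Cat P :=
  fun a b hab => by
    refine ⟨C_map f hf a b ▸ (hQ _ _ (f.monotone hab)).1, fun s h1 h2 h3 => ?_⟩
    rw [← C_map f hf a b]
    exact (hQ _ _ (f.monotone hab)).2 (s.map f f.strictMono) (congrArg f h1) (congrArg f h2)
      (fun i => covBy_map f hf (h3 i))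

theorem Cat.map_interval (hP : Cat P) (f : P ↪o Q) (hf : ∀ a b y, f a ≤ y → y ≤ f b → y ∈ Set.range f)
    (a b : P) (hab : a ≤ b) :
    C (f a) (f b) ≠ ⊤ ∧ ∀ s : LTSeries Q, s.head = f a → s.last = f b → Sat s → (s.length : ℕ∞) = C (f a) (f b) := by
  rw [C_map f hf]
  refine ⟨(hP a b hab).1, fun t t1 t2 t3 => ?_⟩
  have hr : ∀ i, ∃ p, f p = t i := fun i =>
    hf a b (t i) (t1 ▸ t.monotone (Fin.zero_le _)) ((t.monotone (Fin.le_last _)).trans_eq t2)
  choose p hp using hr
  refine (hP a b hab).2 (LTSeries.mk t.length p fun i j hij => f.lt_iff_lt.1 (by rw [hp, hp]; exact t.strictMono hij))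
    (f.injective ((hp 0).trans t1)) (f.injective ((hp _).trans t2))
    (fun i => ⟨f.lt_iff_lt.1 (by
        show f (p i.castSucc) < f (p i.succ)
        rw [hp, hp]; exact (t3 i).1), fun c h1 h2 =>
      (t3 i).2 (c := f c) (by rw [← hp]; exact f.lt_iff_lt.2 h1) (by rw [← hp]; exact f.lt_iff_lt.2 h2)⟩)

end order

variable {X : Type u} [TopologicalSpace X]

theorem codim_eq (Y Y' : IrreducibleCloseds X) : PtTop.codim Y (Y' : Set X) = C Y Y' := rfl

theorem isCatenarySpace_iff : PtTop.IsCatenarySpace X ↔ Cat (IrreducibleCloseds X) := Iff.rfl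

theorem isPreirreducible_of_image {S : Set X} {A : Set S} (h : IsPreirreducible (Subtype.val '' A)) :
    IsPreirreducible A := by
  rintro u v hu hv ⟨x, hx, hxu⟩ ⟨y, hy, hyv⟩
  obtain ⟨u', hu', rfl⟩ := isOpen_induced_iff.1 hu
  obtain ⟨v', hv', rfl⟩ := isOpen_induced_iff.1 hv
  obtain ⟨_, ⟨z, hz, rfl⟩, hzu, hzv⟩ := h u' v' hu' hv' ⟨x.1, ⟨x, hx, rfl⟩, hxu⟩ ⟨y.1, ⟨y, hy, rfl⟩, hyv⟩
  exact ⟨z, hz, hzu, hzv⟩

section embedding

variable (S : Set X)

/-- closure in the ambient space -/
def extend (Y : IrreducibleCloseds S) : IrreducibleCloseds X :=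
  ⟨closure (Subtype.val '' (Y : Set S)),
    (Y.isIrreducible.image _ continuous_subtype_val.continuousOn).closure, isClosed_closure⟩

theorem preimage_extend (Y : IrreducibleCloseds S) : Subtype.val ⁻¹' (extend S Y : Set X) = (Y : Set S) := by
  change Subtype.val ⁻¹' closure (Subtype.val '' (Y : Set S)) = _
  rw [← IsInducing.subtypeVal.closure_eq_preimage_closure_image, Y.isClosed.closure_eq]

/-- the embedding -/
def extendEmb : IrreducibleCloseds S ↪o IrreducibleCloseds X :=
  OrderEmbedding.ofMapLEIff (extend S) fun Y Y' => by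
    refine ⟨fun h => ?_, fun h => closure_mono (Set.image_mono h)⟩
    change (Y : Set S) ⊆ Y'
    rw [← preimage_extend S Y, ← preimage_extend S Y']
    exact Set.preimage_mono h

theorem extend_convex {S : Set X} (hS : IsLocallyClosed S) (a b : IrreducibleCloseds S) (y : IrreducibleCloseds X)
    (h1 : extendEmb S a ≤ y) (h2 : y ≤ extendEmb S b) : y ∈ Set.range (extendEmb S) := by
  obtain ⟨U, Z, hU, hZ, hUZ⟩ := hS
  have hbZ : (extendEmb S b : Set X) ⊆ Z := hZ.closure_subset_iff.2 (by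
    rintro _ ⟨w, -, rfl⟩; exact (hUZ ▸ w.2 : w.1 ∈ U ∩ Z).2)
  have hyS : (y : Set X) ∩ S = (y : Set X) ∩ U := by
    ext z; simp only [hUZ, Set.mem_inter_iff]
    exact ⟨fun h => ⟨h.1, h.2.1⟩, fun h => ⟨h.1, h.2, hbZ (h2 h.1)⟩⟩
  have hne : ((y : Set X) ∩ U).Nonempty := by
    obtain ⟨w, hw⟩ := a.isIrreducible.nonempty
    exact ⟨w.1, h1 (subset_closure ⟨w, hw, rfl⟩), (hUZ ▸ w.2 : w.1 ∈ U ∩ Z).1⟩
  have hd : closure ((y : Set X) ∩ U) = y := by
    refine (y.isClosed.closure_subset_iff.2 Set.inter_subset_left).antisymm ?_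
    exact subset_closure_inter_of_isPreirreducible_of_isOpen y.isIrreducible.2 hU hne
  have himg : Subtype.val '' (Subtype.val ⁻¹' (y : Set X) : Set S) = (y : Set X) ∩ U := by
    rw [Subtype.image_preimage_coe, Set.inter_comm, hyS]
  refine ⟨⟨Subtype.val ⁻¹' (y : Set X), ?_, y.isClosed.preimage continuous_subtype_val⟩, ?_⟩
  · refine ⟨?_, ?_⟩
    · obtain ⟨z, hz⟩ := hne
      exact ⟨⟨z, (hyS ▸ hz : z ∈ (y : Set X) ∩ S).2⟩, hz.1⟩
    · refine isPreirreducible_of_image ?_
      rw [himg, ← isPreirreducible_iff_closure, hd]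
      exact y.isIrreducible.2
  · apply IrreducibleCloseds.ext
    change closure (Subtype.val '' (Subtype.val ⁻¹' (y : Set X) : Set S)) = _
    rw [himg, hd]

theorem mem_range {U : Set X} (hU : IsOpen U) (y : IrreducibleCloseds X) (hne : ((y : Set X) ∩ U).Nonempty) :
    y ∈ Set.range (extendEmb U) := by
  have hd : closure ((y : Set X) ∩ U) = y :=
    (y.isClosed.closure_subset_iff.2 Set.inter_subset_left).antisymm
      (subset_closure_inter_of_isPreirreducible_of_isOpen y.isIrreducible.2 hU hne)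
  have himg : Subtype.val '' (Subtype.val ⁻¹' (y : Set X) : Set U) = (y : Set X) ∩ U := by
    rw [Subtype.image_preimage_coe, Set.inter_comm]
  refine ⟨⟨Subtype.val ⁻¹' (y : Set X), ⟨?_, ?_⟩, y.isClosed.preimage continuous_subtype_val⟩, ?_⟩
  · obtain ⟨z, hz⟩ := hne; exact ⟨⟨z, hz.2⟩, hz.1⟩
  · refine isPreirreducible_of_image ?_
    rw [himg, ← isPreirreducible_iff_closure, hd]
    exact y.isIrreducible.2
  · apply IrreducibleCloseds.ext
    change closure (Subtype.val '' (Subtype.val ⁻¹' (y : Set X) : Set U)) = _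
    rw [himg, hd]

end embedding

section dim

attribute [local instance] specializationOrder

variable [QuasiSober X] [T0Space X] {δ : X → ℤ} (hδ : PtTop.IsDimensionFunction δ)

/-- generic point -/
noncomputable def pt (Y : IrreducibleCloseds X) : X := irreducibleSetEquivPoints Y

theorem specializes_pt {Y Y' : IrreducibleCloseds X} (h : Y ≤ Y') : pt Y' ⤳ pt Y :=
  (irreducibleSetEquivPoints (α := X)).monotone h

include hδ in
theorem strict {Y Y' : IrreducibleCloseds X} (h : Y < Y') : δ (pt Y) < δ (pt Y') :=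
  hδ.1 _ _ (specializes_pt h.le) fun e => h.ne (irreducibleSetEquivPoints.injective e).symm

include hδ in
theorem covBy_eq {Y Y' : IrreducibleCloseds X} (h : Y ⋖ Y') : δ (pt Y') = δ (pt Y) + 1 := by
  refine hδ.2 _ _ ⟨specializes_pt h.le, fun e => h.ne (irreducibleSetEquivPoints.injective e).symm, fun z h1 h2 => ?_⟩
  obtain ⟨Z, rfl⟩ := (irreducibleSetEquivPoints (α := X)).surjective z
  have l1 : Y ≤ Z := (irreducibleSetEquivPoints (α := X)).le_iff_le.1 h2
  have l2 : Z ≤ Y' := (irreducibleSetEquivPoints (α := X)).le_iff_le.1 h1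
  rcases l1.lt_or_eq with h3 | h3
  · rcases l2.lt_or_eq with h4 | h4
    · exact (h.2 h3 h4).elim
    · exact .inl (congrArg irreducibleSetEquivPoints h4)
  · exact .inr (congrArg irreducibleSetEquivPoints h3.symm)

include hδ in
theorem sub_eq {δ' : X → ℤ} (hδ' : PtTop.IsDimensionFunction δ') {x y : X} (h : x ⤳ y) :
    δ x - δ' x = δ y - δ' y := by
  obtain ⟨Y', rfl⟩ := (irreducibleSetEquivPoints (α := X)).surjective x
  obtain ⟨Y, rfl⟩ := (irreducibleSetEquivPoints (α := X)).surjective y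
  have hle : Y ≤ Y' := (irreducibleSetEquivPoints (α := X)).le_iff_le.1 h
  have e1 := (cat_of_dim (d := fun Z => δ (pt Z)) (fun _ _ => strict hδ) (fun _ _ => covBy_eq hδ)).2 Y Y' hle
  have e2 := (cat_of_dim (d := fun Z => δ' (pt Z)) (fun _ _ => strict hδ') (fun _ _ => covBy_eq hδ')).2 Y Y' hle
  rw [e1] at e2
  have e3 : (δ (pt Y') - δ (pt Y)).toNat = (δ' (pt Y') - δ' (pt Y)).toNat := by exact_mod_cast e2
  have m1 : δ (pt Y) ≤ δ (pt Y') := by
    rcases hle.lt_or_eq with h | h
    exacts [Int.le_of_lt (strict hδ h), h ▸ Int.le_refl _]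
  have m2 : δ' (pt Y) ≤ δ' (pt Y') := by
    rcases hle.lt_or_eq with h | h
    exacts [Int.le_of_lt (strict hδ' h), h ▸ Int.le_refl _]
  change δ (pt Y') - δ' (pt Y') = δ (pt Y) - δ' (pt Y)
  omega

end dim

end GrothLib.Catenary20
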